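import Cfsg.Agent.CosetCert.Sp44.Bot.CheckLog0

/-! Generated: kernel checks combined. -/

namespace Cfsg.Agent.CosetCert.Sp44.Bot

theorem log_ok : ∀ i, i < 8014 → data.checkLog i = true := by
  have h0 : ∀ i, i < 0 → data.checkLog i = true := forall_lt_zero
  have h1 := forall_lt_step (b := 2500) h0 log_okAt0 rfl
  have h2 := forall_lt_step (b := 5000) h1 log_okAt2500 rfl
  have h3 := forall_lt_step (b := 7500) h2 log_okAt5000 rfl
  have h4 := forall_lt_step (b := 8014) h3 log_okAt7500 rfl
  exact h4

end Cfsg.Agent.CosetCert.Sp44.Bot
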